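import Cfsg.Agent.Mrg.Omega.F4Leaf.Pos
import Cfsg.Agent.Mrg.Omega.S5.SymBig
import Cfsg.Agent.Mrg.Omega.NSix.Free.Core
import Cfsg.Agent.Mrg.Omega.S5.Pair

section


/-!
# LeafF4, `m ≥ 3`: the member in the form `Free.SixF`, the facts on the partner (#18458, helper300)

* `Fac A P ε` : `A` an even-subset module for `P` (degree `n`), `A ≤ O₂(C_G(r))`, `[A, O₂(C_G(r))] ≤ ⟨r⟩`, the pairs
  off `i`, `j` and their `C_G(r_ij)`-conjugates are in `Z(O₂(C_G(r_ij)))`, `O₂(C_G(r_ij))` acts on `A` as `⟨(i j)⟩`;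
* `Sit.fac`, `Fac.conj`;
* `Fac.sixF` : (H2) and an element of some `WP ε i j` which moves `A` imply `SixF A P ε (WP ε)`;
* `Fac.false` : no partner of type `T` which meets a `SixF`.
-/

set_option autoImplicit false

namespace Cfsg.Agent.Omega.F4Leaf.Facts

open Subgroup Pointwise Cfsg Cfsg.Agent Cfsg.Agent.Omega.MinPar
open Cfsg.Agent.ZN (o2 zc zl)
open Cfsg.Agent.ZN.ChoiceBase (cj mem_cj)
open Cfsg.Agent.Omega.S5.Def Cfsg.Agent.Omega.S5.Syl
open Cfsg.Agent.Omega.S5.SymBig (H2 rr_cj NN_cj)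
open Cfsg.Agent.Omega.NSix.Base Cfsg.Agent.Omega.NSix.Basic Cfsg.Agent.Omega.NSix.FixApp
open Cfsg.Agent.Omega.NSix.Zero (WP mem_WP WP_norm WP_conj zpow_cases)
open Cfsg.Agent.Omega.NSix.Free
open Cfsg.Agent.MinSimple.VModule (o2_isPGroup o2_le le_normalizer_o2)

universe u

variable {G : Type u} [Group G]

/-- the facts on a member of type `S_n` (any `V₀`), used by the END -/
structure Fac {n : ℕ} (A P : Subgroup G) (ε : (Fin n → ZMod 2) → G) : Prop where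
  ev : EvenSet n A P ε
  le : ∀ i j, i ≠ j → A ≤ o2 (NN ε i j)
  conj_A : ∀ i j, i ≠ j → ∀ x ∈ o2 (NN ε i j), ∀ v ∈ A, x * v * x⁻¹ = v ∨ x * v * x⁻¹ = v * rr ε i j
  act : ∀ i j, i ≠ j → ∀ x ∈ o2 (NN ε i j), Acts ε x 1 ∨ Acts ε x (Equiv.swap i j)
  cen : ∀ i j, i ≠ j → ∀ k l, k ≠ i → k ≠ j → l ≠ i → l ≠ j → ∀ f ∈ NN ε i j, ∀ x ∈ o2 (NN ε i j),
    f * rr ε k l * f⁻¹ * x = x * (f * rr ε k l * f⁻¹)

theorem o2_NN_cj [Finite G] {n : ℕ} (ε : (Fin n → ZMod 2) → G) (y : G) (i j : Fin n) :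
    o2 (NN (fun x => y * ε x * y⁻¹) i j) = cj y (o2 (NN ε i j)) := by
  rw [NN_cj, ZN.ChoiceSit.o2_cj]

theorem Fac.conj [Finite G] {n : ℕ} {A P : Subgroup G} {ε : (Fin n → ZMod 2) → G} (h : Fac A P ε) (y : G) :
    Fac (cj y A) (cj y P) (fun x => y * ε x * y⁻¹) where
  ev := h.ev.conj y
  le i j hij x hx := by
    rw [o2_NN_cj, mem_cj]
    exact h.le i j hij (mem_cj.mp hx)
  conj_A i j hij x hx v hv := by
    rw [o2_NN_cj, mem_cj] at hx
    rw [mem_cj] at hv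
    rw [rr_cj]
    rcases h.conj_A i j hij _ hx _ hv with h1 | h1
    · left
      calc x * v * x⁻¹ = y * (y⁻¹ * x * y * (y⁻¹ * v * y) * (y⁻¹ * x * y)⁻¹) * y⁻¹ := by group
        _ = v := by rw [h1]; group
    · right
      calc x * v * x⁻¹ = y * (y⁻¹ * x * y * (y⁻¹ * v * y) * (y⁻¹ * x * y)⁻¹) * y⁻¹ := by group
        _ = _ := by rw [h1]; group
  act i j hij x hx := by
    rw [o2_NN_cj, mem_cj] at hx
    have e : y * (y⁻¹ * x * y) * y⁻¹ = x := by group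
    rw [← e, acts_conj_label_iff, acts_conj_label_iff]
    exact h.act i j hij _ hx
  cen i j hij k l k1 k2 l1 l2 f hf x hx := by
    rw [o2_NN_cj, mem_cj] at hx
    rw [NN_cj, mem_cj] at hf
    rw [rr_cj]
    have h1 := h.cen i j hij k l k1 k2 l1 l2 _ hf _ hx
    calc f * (y * rr ε k l * y⁻¹) * f⁻¹ * x
        = y * (y⁻¹ * f * y * rr ε k l * (y⁻¹ * f * y)⁻¹ * (y⁻¹ * x * y)) * y⁻¹ := by group
      _ = _ := by rw [h1]; group

/-- the facts hold in `Pos.Sit` -/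
theorem _root_.Cfsg.Agent.Omega.F4Leaf.Pos.Sit.fac [Finite G] {S : Sylow 2 G} {P : Subgroup G} {m : ℕ}
    {A : Subgroup G} {ε : (Fin (2 ^ m + 1) → ZMod 2) → G} (h : Pos.Sit S P m A ε) : Fac A P ε where
  ev := h.split.even
  le _ _ hij := h.split.A_le.trans (h.V_le hij)
  conj_A _ _ hij _ hx _ hv := h.conj_V hij hx (h.split.A_le hv)
  act _ _ hij _ hx := h.acts hij hx
  cen i j hij k l k1 k2 l1 l2 f hf x hx :=
    h.uz_comm hij (subset_closure ⟨f, hf, _, Or.inr (rr_mem_Vn ⟨k1, k2⟩ ⟨l1, l2⟩), rfl⟩) hx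

namespace Fac

section

variable {n : ℕ} {A P : Subgroup G} {ε : (Fin n → ZMod 2) → G} (h : Fac A P ε)
include h

/-- the points off `i`, `j` commute with `O₂(C_G(r_ij))` -/
theorem pt (hodd : Odd n) (hn : 3 ≤ n) {i j k : Fin n} (hij : i ≠ j) (ki : k ≠ i) (kj : k ≠ j) :
    zz ε k ∈ centralizer (o2 (NN ε i j) : Set G) := by
  refine zz_mem_of_rr h.ev hodd hn hij ?_ ?_ ki kj
  · rw [mem_centralizer_iff]
    intro x hx
    exact mem_NN.mp (o2_le _ hx)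
  · intro a c _ ai aj ci cj
    rw [mem_centralizer_iff]
    intro x hx
    have h1 := h.cen i j hij a c ai aj ci cj 1 (one_mem _) x hx
    rw [one_mul, inv_one, mul_one] at h1
    exact h1.symm

theorem uu_cen (hodd : Odd n) (hn : 3 ≤ n) {i j : Fin n} (hij : i ≠ j) :
    UU ε i j ≤ centralizer (o2 (NN ε i j) : Set G) := by
  unfold UU
  rw [closure_le]
  rintro u ⟨g, hg, k, k1, k2, rfl⟩
  have h1 := NSix.End.Six.norm_cen _ (le_normalizer_o2 _ hg)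
  exact (mem_normalizer_iff.mp h1 _).mp (h.pt hodd hn hij k1 k2)

theorem ww [Finite G] (hG : IsCharacteristicTwoType G) (hn : 3 ≤ n) {i j : Fin n} (hij : i ≠ j) :
    WP ε i j ≤ o2 (NN ε i j) := by
  intro g hg
  exact MinSimple.Geo.mem_o2_of_stab hG (rr_sq h.ev i j) (rr_ne_one h.ev hn hij) hg.1 hg.2

theorem wp_conj {i j : Fin n} {x w : G} (hx : x ∈ o2 (NN ε i j)) (hw : w ∈ WP ε i j) :
    w * x * w⁻¹ = x ∨ w * x * w⁻¹ = x * rr ε i j := by
  rcases zpow_cases (rr_sq h.ev i j) (hw.2 x hx) with h1 | h1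
  · left
    rwa [mul_inv_eq_one] at h1
  · right
    rw [mul_inv_eq_iff_eq_mul] at h1
    rw [h1]
    exact (mem_NN.mp (o2_le _ hx)).symm

theorem mem_wp {i j : Fin n} (hij : i ≠ j) {v : G} (hv : v ∈ A) : v ∈ WP ε i j := by
  rw [mem_WP]
  refine ⟨o2_le _ (h.le i j hij hv), fun q hq => ?_⟩
  have e : v * q * v⁻¹ * q⁻¹ = v * (q * v * q⁻¹)⁻¹ := by group
  rw [e]
  rcases h.conj_A i j hij q hq v hv with h1 | h1
  · rw [h1, mul_inv_cancel]
    exact one_mem _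
  · rw [h1, mul_inv_rev, rr_inv h.ev]
    have h2 : rr ε i j * v⁻¹ = v⁻¹ * rr ε i j := h.ev.comm_mem (rr_mem h.ev i j) (inv_mem hv)
    rw [h2, mul_inv_cancel_left]
    exact mem_zpowers _

/-- **`SixF` from (H2)** -/
theorem sixF [Finite G] (hG : IsCharacteristicTwoType G) (hodd : Odd n) (hn : 3 ≤ n) (hq : H2 ε)
    (hN : ∃ i j, i ≠ j ∧ ∃ g ∈ WP ε i j, ¬ g ∈ centralizer (A : Set G)) : SixF A P ε (WP ε) where
  ev := h.ev
  Vle _ _ hij _ hv := h.mem_wp hij hv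
  wn _ _ _ _ hg _ hx := WP_norm hg hx
  wc _ _ hg _ _ _ _ hx := WP_conj hg hx
  cen i j hij u hu w hw := (mem_centralizer_iff.mp (h.uu_cen hodd hn hij hu) w (h.ww hG hn hij hw)).symm
  act i j hij w hw := h.act i j hij w (h.ww hG hn hij hw)
  mov := by
    obtain ⟨i0, j0, hij0, g, hg, hgV⟩ := hN
    have hgs : Acts ε g (Equiv.swap i0 j0) :=
      (h.act i0 j0 hij0 g (h.ww hG hn hij0 hg)).resolve_left fun h1 => hgV (h.ev.acts_one_iff.mp h1)
    intro i j hij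
    obtain ⟨σ, h1, h2, -⟩ := exists_perm hij0 hij
    obtain ⟨p, -, hp⟩ := h.ev.full σ
    refine ⟨p * g * p⁻¹, ?_, ?_⟩
    · have := WP_conj hp hg
      rwa [h1, h2] at this
    · have h3 := hp.conj hgs
      have h4 : σ * Equiv.swap i0 j0 * σ⁻¹ = Equiv.swap i j := by
        rw [← Equiv.swap_apply_apply, h1, h2]
      rwa [h4] at h3
  tra i j k l hij hkl h1 h2 h3 h4 _ hu _ hw := h.wp_conj (hq i j k l hij hkl h1 h2 h3 h4 hu) hw
  hq := hq
  qc _ _ _ _ hx _ hw := h.wp_conj hx hw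
  uq i j hij u hu q hq := (mem_centralizer_iff.mp (h.uu_cen hodd hn hij hu) q hq).symm

end

/-- three letters off two letters -/
theorem exists_three' {n : ℕ} (hn : 5 ≤ n) (i j : Fin n) : ∃ p q r : Fin n, p ≠ q ∧ p ≠ r ∧ q ≠ r ∧
    (p ≠ i ∧ p ≠ j) ∧ (q ≠ i ∧ q ≠ j) ∧ (r ≠ i ∧ r ≠ j) := by
  have hcard : 2 < (Finset.univ \ {i, j} : Finset (Fin n)).card := by
    have h1 := Finset.le_card_sdiff {i, j} (Finset.univ : Finset (Fin n))
    rw [Finset.card_univ, Fintype.card_fin] at h1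
    have h2 : ({i, j} : Finset (Fin n)).card ≤ 2 := Finset.card_le_two
    omega
  obtain ⟨p, hp, q, hq, r, hr, hpq, hpr, hqr⟩ := Finset.two_lt_card.mp hcard
  simp only [Finset.mem_sdiff, Finset.mem_univ, true_and, Finset.mem_insert,
    Finset.mem_singleton, not_or] at hp hq hr
  exact ⟨p, q, r, hpq, hpr, hqr, hp, hq, hr⟩

/-- **END for a partner of type `T`**: `r_ij = r'_{i'j'}`, `a' ∈ A'` induces `(i j)` on `A`. -/
theorem false [Finite G] (hG : IsCharacteristicTwoType G) {n n' : ℕ} {A A' L P' : Subgroup G}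
    {ε : (Fin n → ZMod 2) → G} {ε' : (Fin n' → ZMod 2) → G} {W : Fin n → Fin n → Subgroup G}
    (b : SixF A L ε W) (hodd : Odd n) (hn : 7 ≤ n) (S : Sylow 2 G) (hS : (S : Subgroup G) ≤ L) {o : Fin n}
    (ho : ∀ s ∈ (S : Subgroup G), s * zz ε o = zz ε o * s) (h' : Fac A' P' ε') (hn' : 5 ≤ n')
    {i j : Fin n} (hij : i ≠ j) {i' j' : Fin n'} (hij' : i' ≠ j') (hr : rr ε i j = rr ε' i' j')
    (ha : ∃ a ∈ A', Acts ε a (Equiv.swap i j)) : False := by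
  obtain ⟨a, haA, ha⟩ := ha
  obtain ⟨p, q, r, hpq, hpr, hqr, ⟨p1, p2⟩, ⟨q1, q2⟩, ⟨r1, r2⟩⟩ := exists_three' hn' i' j'
  have hNN : NN ε i j = NN ε' i' j' := by unfold NN; rw [hr]
  have key : ∀ k l, k ≠ l → k ≠ i' → k ≠ j' → l ≠ i' → l ≠ j' → rr ε' k l ∈ o2 (NN ε i j) ∧
      (∀ x ∈ o2 (NN ε i j), rr ε' k l * x = x * rr ε' k l) ∧
      ∀ f : G, f * rr ε' k l = rr ε' k l * f → a * (f * rr ε i j * f⁻¹) = (f * rr ε i j * f⁻¹) * a := by
    intro k l hkl k1 k2 l1 l2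
    rw [hNN, hr]
    refine ⟨h'.le i' j' hij' (rr_mem h'.ev k l), fun x hx => ?_, fun f hf => ?_⟩
    · have h1 := h'.cen i' j' hij' k l k1 k2 l1 l2 1 (one_mem _) x hx
      rwa [one_mul, inv_one, mul_one] at h1
    · exact (h'.cen k l hkl i' j' k1.symm l1.symm k2.symm l2.symm f (mem_NN.mpr hf) a
        (h'.le k l hkl haA)).symm
  have kpq := key p q hpq p1 p2 q1 q2
  have kqr := key q r hqr q1 q2 r1 r2
  have kpr := key p r hpr p1 p2 r1 r2
  refine SixF.false_three hG b hodd hn S hS ho hij (c := ![rr ε' p q, rr ε' q r, rr ε' p r])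
    ?_ ?_ ?_ ha ?_
  · intro k
    fin_cases k
    · exact kpq.1
    · exact kqr.1
    · exact kpr.1
  · intro k
    fin_cases k
    · exact kpq.2.1
    · exact kqr.2.1
    · exact kpr.2.1
  · change rr ε' p q * rr ε' q r * rr ε' p r = 1
    rw [rr_add h'.ev, rr_sq h'.ev]
  · intro k
    fin_cases k
    · exact kpq.2.2
    · exact kqr.2.2
    · exact kpr.2.2

end Fac

end Cfsg.Agent.Omega.F4Leaf.Facts

end

section


/-!
# LeafF4, `m ≥ 3`, partner of type `T`: `F4SymBig` from (H2) (#17439, #18458, helper300)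

* `two_of_labZ` : the position of `A`, `A' = A₂ ^ y` (`NSix.NoTk.Two`) for any `V₀`, `V₀'`;
* `exists_common` : `A'` induces exactly `⟨(i j)⟩` on `A`, `A` induces `⟨(i' j')⟩` on `A'`, `r_ij = r'_{i'j'}`;
* `false_two` : (H2) for the member `A` (`m ≥ 3`) is impossible;
* `MemH2 K` : (H2) for the members of degree `≥ 9` with `V₀ ≠ 1`; `f4SymBig_of : MemH2 K → F4SymBig K`.
-/

set_option autoImplicit false

namespace Cfsg.Agent.Omega.F4Leaf.Two

open Subgroup Pointwise Cfsg Cfsg.Agent.ZN Cfsg.Agent.ZN.ChoiceBase Cfsg.Agent.Omega.MinPar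
open Cfsg.Agent.Omega.Frame Cfsg.Agent.Omega.FFThm
open Cfsg.Agent.Omega.FrameLE (AllIn)
open Cfsg.Agent.Omega.FrameFF (cv Single Free)
open Cfsg.Agent.Omega.FrameMulti (IsSym IsNat Typed AllTyped NoWr LeafF4)
open Cfsg.Agent.Omega.S5.Def Cfsg.Agent.Omega.S5.Syl Cfsg.Agent.Omega.S5.Pair Cfsg.Agent.Omega.S5.Main
open Cfsg.Agent.Omega.S5.SymBig (H2 pos_symm)
open Cfsg.Agent.Omega.F4Leaf.Def Cfsg.Agent.Omega.F4Leaf.Main Cfsg.Agent.Omega.F4Leaf.Facts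
open Cfsg.Agent.Omega.NSix.Base Cfsg.Agent.Omega.NSix.Basic
open Cfsg.Agent.Omega.NSix.RThree (acts_swap')
open Cfsg.Agent.Omega.NSix.Zero (WP mem_WP)

universe u

section abs

variable {G : Type u} [Group G]

/-- a factor acts like the whole group -/
theorem side_of {n : ℕ} {A B B' P : Subgroup G} {ε : (Fin n → ZMod 2) → G} (hE : EvenSet n A P ε)
    (h : Side B ε) (hB : B' ≤ B)
    (hf : ∀ b ∈ B, ∃ c ∈ centralizer (A : Set G), ∃ a ∈ B', b = c * a) : Side B' ε := by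
  intro a ha
  obtain ⟨τ, h1, h2⟩ := h a (hB ha)
  refine ⟨τ, h1, fun i hi => ⟨(h2 i hi).1, ?_⟩⟩
  obtain ⟨b, hb, h3⟩ := (h2 i hi).2
  obtain ⟨c, hc, a', ha', rfl⟩ := hf b hb
  refine ⟨a', ha', ?_⟩
  have h4 := (hE.acts_one_iff.mpr (inv_mem hc)).mul h3
  rwa [one_mul, inv_mul_cancel_left] at h4

/-- the common pair -/
theorem rr_eq {n n' : ℕ} {V V' L L' : Subgroup G} {ε : (Fin n → ZMod 2) → G} {ε' : (Fin n' → ZMod 2) → G}
    (hE : EvenSet n V L ε) (hE' : EvenSet n' V' L' ε') (hn : 3 ≤ n) (hn' : 3 ≤ n') {i j : Fin n} {i' j' : Fin n'}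
    (hij : i ≠ j) (hij' : i' ≠ j') (mov : ∃ b ∈ V', Acts ε b (Equiv.swap i j))
    (act : ∀ b ∈ V', Acts ε b 1 ∨ Acts ε b (Equiv.swap i j)) (mov' : ∃ a ∈ V, Acts ε' a (Equiv.swap i' j')) :
    rr ε i j = rr ε' i' j' := by
  obtain ⟨b, hb, hb1⟩ := mov
  obtain ⟨a, ha, ha1⟩ := mov'
  -- a common witness: `a` moved by `b`
  obtain ⟨x, rfl⟩ := hE.surj a ha
  obtain ⟨y, rfl⟩ := hE'.surj b hb
  by_cases hx : x i = x j
  · -- `a` is fixed by `V'`
    exfalso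
    have h1 : ∀ c ∈ V', c * ε x * c⁻¹ = ε x := by
      intro c hc
      rcases act c hc with h2 | h2
      · exact h2 x
      · exact (acts_swap' hE h2 x).1 hx
    have h2 : ε x ∈ centralizer (V' : Set G) := by
      rw [mem_centralizer_iff]
      intro c hc
      exact mul_inv_eq_iff_eq_mul.mp (h1 c hc)
    have h3 := hE'.acts_unique hn' (hE'.acts_one_iff.mpr h2) ha1
    exact hij' (Equiv.swap_eq_one_iff.mp h3.symm)
  by_cases hy : y i' = y j'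
  · exfalso
    have h1 := (acts_swap' hE' ha1 y).1 hy
    have h2 := (acts_swap' hE hb1 x).2 hx
    have h3 : ε' y * ε x * (ε' y)⁻¹ = ε x := by
      rw [mul_inv_eq_iff_eq_mul] at h1 ⊢
      exact h1.symm
    rw [h3] at h2
    exact rr_ne_one hE hn hij (left_eq_mul.mp h2)
  · have h1 := (acts_swap' hE' ha1 y).2 hy
    have h2 := (acts_swap' hE hb1 x).2 hx
    have e1 : rr ε i j = (ε x)⁻¹ * (ε' y * ε x * (ε' y)⁻¹) := by rw [h2]; group
    have e2 : rr ε' i' j' = (ε' y)⁻¹ * (ε x * ε' y * (ε x)⁻¹) := by rw [h1]; group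
    have e3 : (rr ε' i' j')⁻¹ = rr ε' i' j' := rr_inv hE' _ _
    rw [← e3, e2, e1, hE.inv x]
    have e4 : (ε' y)⁻¹ = ε' y := hE'.inv y
    rw [e4]
    simp only [mul_inv_rev, hE.inv x, e4]
    group

theorem wp_eq {n n' : ℕ} {ε : (Fin n → ZMod 2) → G} {ε' : (Fin n' → ZMod 2) → G} {i j : Fin n} {i' j' : Fin n'}
    (h : rr ε i j = rr ε' i' j') : WP ε i j = WP ε' i' j' := by
  have hN : NN ε i j = NN ε' i' j' := by unfold NN; rw [h]
  ext x
  rw [mem_WP, mem_WP, hN, h]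

end abs

section pair

variable {G : Type u} [Group G] [Finite G] {S : Sylow 2 G} {P₁ P₂ : Subgroup G} {y : G} {m m' : ℕ} {A : Subgroup G}
  {ε : (Fin (2 ^ m + 1) → ZMod 2) → G} {A₂ : Subgroup G} {ε₂ : (Fin (2 ^ m' + 1) → ZMod 2) → G}

theorem labTwoZ_symm (h : LabTwoZ S P₁ P₂ y m m' A ε A₂ ε₂) : LabTwoZ S P₂ P₁ y⁻¹ m' m A₂ ε₂ A ε where
  toPos := pos_symm h.toPos
  split := h.split₂
  side := by
    have h1 := h.side₂.conj y⁻¹
    have e : (fun x => y⁻¹ * (fun x => y * ε₂ x * y⁻¹) x * y⁻¹⁻¹) = ε₂ := by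
      funext x
      dsimp only
      group
    rwa [e] at h1
  split₂ := h.split
  side₂ := by
    have h1 := h.side.conj y⁻¹
    rwa [cj_inv_cj] at h1

variable (hG : IsCharacteristicTwoType G) (hl : LabTwoZ S P₁ P₂ y m m' A ε A₂ ε₂)
include hG hl

theorem fac₁ : ∀ b ∈ zl (S : Subgroup G) P₁,
    ∃ c ∈ centralizer ((cj y A₂ : Subgroup G) : Set G), ∃ a ∈ A, b = c * a := by
  intro b hb
  obtain ⟨v, hv, a, ha, rfl⟩ := hl.split.mul_eq hG hl.pair.star₁ hb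
  refine ⟨v, ?_, a, ha, rfl⟩
  rw [mem_centralizer_iff]
  intro x hx
  refine hl.split.comm (hl.pair.star₁.le (hl.le ?_)) hv
  exact cj_mono y hl.split₂.A_le hx

theorem fac₂ : ∀ b ∈ cj y (zl (S : Subgroup G) P₂), ∃ c ∈ centralizer (A : Set G), ∃ a ∈ cj y A₂, b = c * a := by
  intro b hb
  rw [mem_cj] at hb
  obtain ⟨v, hv, a, ha, hva⟩ := hl.split₂.mul_eq hG hl.pair.star₂ hb
  refine ⟨y * v * y⁻¹, ?_, y * a * y⁻¹, ?_, ?_⟩
  · rw [mem_centralizer_iff]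
    intro x hx
    have h1 : y⁻¹ * x * y ∈ (S : Subgroup G) := mem_cj.mp (hl.ge (hl.split.A_le hx))
    have h2 := hl.split₂.comm (hl.pair.star₂.le h1) hv
    calc x * (y * v * y⁻¹) = y * (y⁻¹ * x * y * v) * y⁻¹ := by group
      _ = y * (v * (y⁻¹ * x * y)) * y⁻¹ := by rw [h2]
      _ = _ := by group
  · rw [mem_cj]
    have e : y⁻¹ * (y * a * y⁻¹) * y = a := by group
    rwa [e]
  · calc b = y * (y⁻¹ * b * y) * y⁻¹ := by group
      _ = _ := by rw [hva]; group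

/-- The position of `A`, `A' = A₂ ^ y`. -/
theorem two_of_labZ : NSix.NoTk.Two A (cj y A₂) P₁ (cj y P₂) (S : Subgroup G)
    ((y • S : Sylow 2 G) : Subgroup G) ε fun x => y * ε₂ x * y⁻¹ where
  even := hl.split.even
  even' := hl.split₂.even.conj y
  le := hl.pair.star₁.le
  le' := by rw [NSix.NoTk.coe_smul]; exact cj_mono y hl.pair.star₂.le
  fix := hl.split.fix0
  fix' := by rw [NSix.NoTk.coe_smul]; exact NSix.NoTk.fix0_conj hl.split₂.fix0 y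
  in' := (cj_mono y hl.split₂.A_le).trans hl.le
  in_ := by rw [NSix.NoTk.coe_smul]; exact hl.split.A_le.trans hl.ge
  side := side_of hl.split.even hl.side (cj_mono y hl.split₂.A_le) (fac₂ hG hl)
  side' := side_of (hl.split₂.even.conj y) hl.side₂ hl.split.A_le (fac₁ hG hl)

theorem not_cen₁ : ¬ cj y A₂ ≤ centralizer (A : Set G) := by
  intro h
  apply hl.pair.ne
  refine commutator_eq_bot_iff_le_centralizer.mpr (le_centralizer_iff.mp ?_)
  change cj y (zl (S : Subgroup G) P₂) ≤ _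
  intro b hb
  have hbS := hl.le hb
  obtain ⟨c, hc, a, ha, rfl⟩ := fac₂ hG hl b hb
  rw [mem_centralizer_iff]
  intro x hx
  obtain ⟨v, hv, a1, ha1, rfl⟩ := hl.split.mul_eq hG hl.pair.star₁ hx
  have h1 : a1 * (c * a) = c * a * a1 := mem_centralizer_iff.mp (mul_mem hc (h ha)) a1 ha1
  have h2 : c * a * v = v * (c * a) := hl.split.comm (hl.pair.star₁.le hbS) hv
  calc v * a1 * (c * a) = v * (a1 * (c * a)) := by group
    _ = v * (c * a) * a1 := by rw [h1]; group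
    _ = _ := by rw [← h2]; group

theorem not_cen₂ : ¬ A ≤ centralizer ((cj y A₂ : Subgroup G) : Set G) := fun h =>
  not_cen₁ hG hl (le_centralizer_iff.mp h)

/-- **the common transposition** -/
theorem exists_common (hm : 2 ≤ m) (hm' : 2 ≤ m') : ∃ i j i' j', i ≠ j ∧ i' ≠ j' ∧
    rr ε i j = rr (fun x => y * ε₂ x * y⁻¹) i' j' ∧
    (∃ b ∈ cj y A₂, Acts ε b (Equiv.swap i j)) ∧
    (∀ b ∈ cj y A₂, Acts ε b 1 ∨ Acts ε b (Equiv.swap i j)) ∧
    (∃ a ∈ A, Acts (fun x => y * ε₂ x * y⁻¹) a (Equiv.swap i' j')) ∧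
    ∀ a ∈ A, Acts (fun x => y * ε₂ x * y⁻¹) a 1 ∨ Acts (fun x => y * ε₂ x * y⁻¹) a (Equiv.swap i' j') := by
  have ht := two_of_labZ hG hl
  obtain ⟨i, j, hij, h1, h2⟩ := NSix.NoTk.acts_one_or hG hm hm' ht (not_cen₁ hG hl)
  obtain ⟨i', j', hij', h1', h2'⟩ := NSix.NoTk.acts_one_or hG hm' hm ht.symm (not_cen₂ hG hl)
  exact ⟨i, j, i', j', hij, hij', rr_eq ht.even ht.even' (three_le (by omega)) (three_le (by omega)) hij hij' h1 h2
    h1', h1, h2, h1', h2'⟩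

/-- **(H2) for a member with `m ≥ 3` is impossible, partner of type `T`.** -/
theorem false_two (hm : 3 ≤ m) (hm' : 2 ≤ m') (hq : H2 ε) : False := by
  obtain ⟨i, j, i', j', hij, hij', hr, h1, -, -, -⟩ := exists_common hG hl (by omega) hm'
  have s₁ : Pos.Sit S P₁ m A ε := ⟨hG, hl.pair.star₁, by omega, hl.split⟩
  have s₂ : Pos.Sit S P₂ m' A₂ ε₂ := ⟨hG, hl.pair.star₂, hm', hl.split₂⟩
  have f₂ := s₂.fac.conj y
  have hn7 : 7 ≤ 2 ^ m + 1 := by
    have : 2 ^ 3 ≤ 2 ^ m := Nat.pow_le_pow_right (by norm_num) hm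
    omega
  have hodd : Odd (2 ^ m + 1) := Even.add_one (Nat.even_pow.mpr ⟨even_two, by omega⟩)
  have hn5 : 5 ≤ 2 ^ m' + 1 := five_le hm'
  obtain ⟨a, ha, ha1⟩ := h1
  have b := s₁.fac.sixF hG hodd s₁.three hq ⟨i, j, hij, a, by rw [wp_eq hr]; exact f₂.mem_wp hij' ha, fun h0 =>
    hij (Equiv.swap_eq_one_iff.mp
      (hl.split.even.acts_unique s₁.three (hl.split.even.acts_one_iff.mpr h0) ha1).symm)⟩
  refine Fac.false hG b hodd hn7 S hl.pair.star₁.le (o := 0) (fun s hs => ?_) f₂ hn5 hij hij' hr ⟨a, ha, ha1⟩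
  obtain ⟨σ, hσ⟩ := hl.split.even.perm s (hl.pair.star₁.le hs)
  exact (hl.split.even.fixes_iff s₁.three hσ 0).mpr (hl.split.fix0 s hs σ hσ)

end pair

/-! ### The assembly -/

/-- **(H2)** for the member `V = V_{P₁}` of degree `2^m + 1 ≥ 9`, `V₀ ≠ 1`, of a mutual pair. -/
def MemH2 (K : Cls.{u}) : Prop :=
  ∀ (G : Type u) [Group G] [Finite G], Ctx G → K G → ∀ (S : Sylow 2 G), Full (S : Subgroup G) →
    AllIn (S : Subgroup G) → AllTyped (S : Subgroup G) → NoWr (S : Subgroup G) →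
    ∀ (P₁ P₂ : Subgroup G) (y : G) (m : ℕ) (A : Subgroup G) (ε : (Fin (2 ^ m + 1) → ZMod 2) → G), 3 ≤ m →
      LabZ S P₁ P₂ y m A ε → cv (S : Subgroup G) P₁ ≠ ⊥ → cv (S : Subgroup G) P₂ ≠ ⊥ → ¬ IsKnownSimple' G → H2 ε

/-- **`F4SymBig` from (H2)** -/
theorem f4SymBig_of {K : Cls.{u}} (h2 : MemH2 K) : F4SymBig K := by
  intro G _ _ hG hcl S hF hI hT hW P₁ P₂ y m m' A ε A₂ ε₂ hm hm' hbig hl hc₁ hc₂
  by_contra hk
  rcases hbig with h3 | h3
  · exact false_two hG.char2 hl h3 hm'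
      (h2 G hG hcl S hF hI hT hW P₁ P₂ y m A ε h3 hl.toLabZ hc₁ hc₂ hk)
  · have hl' := labTwoZ_symm hl
    exact false_two hG.char2 hl' h3 hm
      (h2 G hG hcl S hF hI hT hW P₂ P₁ y⁻¹ m' A₂ ε₂ h3 hl'.toLabZ hc₂ hc₁ hk)

end Cfsg.Agent.Omega.F4Leaf.Two

end
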