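import Cfsg.Agent.Mrg.Omega.F4Leaf.Cen.Main
import Cfsg.Agent.Mrg.Omega.F4Leaf.OT.Done
import Cfsg.Agent.Mrg.Omega.F4Leaf.Fac
import Cfsg.Agent.Mrg.Omega.IId.Cv.SymPos

section


/-!
# LeafF4 for two members of type `S_{2^m+1}`, without the hypothesis `NoWr` (helper856)

* `four_nat`, `four_sym` : `4 |Z| ≤ |V_P|` if `P` has `k ≥ 2` factors;
* `exists_natOver`, `exists_pos`, `cen_known`, `nat_known` : the statements of `Cen/NN.lean`, `Cen/Main.lean` without
  `NoWr`;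
* `nc_false` : `F4NC` without `NoWr`;
* `MemH2 K` : (H2) for members of degree `≥ 9` with `V₀ ≠ 1`, without `NoWr`; `symBig_known`;
* `tt_known` : a mutual pair `P₁, P₂`, not free, of types `S_{2^m+1}`, `S_{2^m'+1}` implies that `G` is known.
-/

set_option autoImplicit false
set_option linter.unusedSectionVars false

namespace Cfsg.Agent.Omega.F4Leaf.NoWrFree

open Subgroup Pointwise Cfsg Cfsg.Agent.ZN Cfsg.Agent.ZN.ChoiceBase Cfsg.Agent.Omega.MinPar
open Cfsg.Agent.Omega.Frame Cfsg.Agent.Omega.FFThm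
open Cfsg.Agent.Omega.FrameLE (AllIn)
open Cfsg.Agent.Omega.FrameFF (cv Single Free NatOver)
open Cfsg.Agent.Omega.FrameMulti (IsSym IsNat Typed AllTyped NoWr LeafF4)
open Cfsg.Agent.Omega.S5.Def Cfsg.Agent.Omega.S5.Syl Cfsg.Agent.Omega.S5.Pair Cfsg.Agent.Omega.S5.Main
open Cfsg.Agent.Omega.S5.SymBig (H2)
open Cfsg.Agent.Omega.F4Leaf.Def Cfsg.Agent.Omega.F4Leaf.Main Cfsg.Agent.Omega.TTn
open Cfsg.Agent.Omega.HOne.Main (vx SplitPar NonFree Same)
open Cfsg.Agent.Omega.F4Leaf.Cen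
open Cfsg.Agent.Omega.F4Leaf.Cen.Main (PosExit)

universe u

section count

variable {G : Type u} [Group G] [Finite G] {S : Sylow 2 G} {P : Subgroup G}

/-- `4 |Z| ≤ |V_P|` for `k ≥ 2` natural factors -/
theorem four_nat {F : Type} [Field F] [Finite F] {k : ℕ}
    (M : NatK F (S : Subgroup G) P (zl (S : Subgroup G) P) (cv (S : Subgroup G) P) k) (hk : 2 ≤ k) :
    4 * Nat.card (zc (S : Subgroup G)) ≤ Nat.card (zl (S : Subgroup G) P) := by
  classical
  have hZV : zc (S : Subgroup G) ≤ zl (S : Subgroup G) P := MinSimple.VModule.zc_le_zl _ _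
  let i : Fin k := ⟨0, by omega⟩
  let j : Fin k := ⟨1, by omega⟩
  have hij : i ≠ j := fun h => by
    have := congrArg Fin.val h
    simp [i, j] at this
  obtain ⟨t, ht, h1⟩ := M.trans i j
  choose s hs hse using fun x : Fin 2 → F => M.surj (Pi.single i x)
  let f : (Fin 2 → F) × zc (S : Subgroup G) → zl (S : Subgroup G) P :=
    fun p => ⟨s p.1 * p.2, mul_mem (hs p.1) (hZV p.2.2)⟩
  have hf : Function.Injective f := by
    rintro ⟨x, z⟩ ⟨y, w⟩ hxy
    have e0 : s x * (z : G) = s y * (w : G) := congrArg Subtype.val hxy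
    have e1 := congrArg M.e e0
    rw [M.mul _ (hs x) _ (hZV z.2), M.mul _ (hs y) _ (hZV w.2), hse, hse] at e1
    have key : ∀ v ∈ zc (S : Subgroup G), M.e v j = 0 → M.e v i = 0 := fun v hv h0 => by
      rw [← h1 v (hZV hv), (MinSimple.VModule.mem_zc.1 hv).2.1 t ht, mul_inv_cancel_right]
      exact h0
    have hzw : (z : G)⁻¹ * w ∈ zc (S : Subgroup G) := mul_mem (inv_mem z.2) w.2
    have e2 : M.e ((z : G)⁻¹ * w) = Pi.single i x - Pi.single i y := by
      have e3 : M.e (z : G) + M.e ((z : G)⁻¹ * w) = M.e (w : G) := by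
        rw [← M.mul _ (hZV z.2) _ (hZV hzw)]
        congr 1
        group
      have e4 : Pi.single i x + M.e (z : G) = Pi.single i y + (M.e (z : G) + M.e ((z : G)⁻¹ * w)) := by
        rw [e3]; exact e1
      have e5 : Pi.single i x = Pi.single i y + M.e ((z : G)⁻¹ * w) := by
        have := e4
        have h6 : Pi.single i x + M.e (z : G) = (Pi.single i y + M.e ((z : G)⁻¹ * w)) + M.e (z : G) := by
          rw [this]; abel
        exact add_right_cancel h6
      rw [e5]; abel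
    have e6 : M.e ((z : G)⁻¹ * w) j = 0 := by
      rw [e2, Pi.sub_apply, Pi.single_eq_of_ne hij.symm, Pi.single_eq_of_ne hij.symm, sub_zero]
    have e7 := key _ hzw e6
    rw [e2, Pi.sub_apply, Pi.single_eq_same, Pi.single_eq_same, sub_eq_zero] at e7
    subst e7
    have e8 : (z : G) = w := mul_left_cancel e0
    exact Prod.ext rfl (Subtype.ext e8)
  have h2 := Nat.card_le_card_of_injective f hf
  rw [Nat.card_prod, Nat.card_fun] at h2
  have h3 : 2 ≤ Nat.card F := Finite.one_lt_card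
  have h4 : 4 ≤ Nat.card F ^ Nat.card (Fin 2) := by
    rw [Nat.card_fin]
    nlinarith
  exact (Nat.mul_le_mul_right _ h4).trans h2

/-- `4 |Z| ≤ |V_P|` for `k ≥ 2` factors `S_{2^m+1}` -/
theorem four_sym {k m : ℕ}
    (M : SymK (S : Subgroup G) P (zl (S : Subgroup G) P) (cv (S : Subgroup G) P) k m) (hk : 2 ≤ k) (hm : 1 ≤ m) :
    4 * Nat.card (zc (S : Subgroup G)) ≤ Nat.card (zl (S : Subgroup G) P) := by
  classical
  have hZV : zc (S : Subgroup G) ≤ zl (S : Subgroup G) P := MinSimple.VModule.zc_le_zl _ _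
  let i : Fin k := ⟨0, by omega⟩
  let j : Fin k := ⟨1, by omega⟩
  have hij : i ≠ j := fun h => by
    have := congrArg Fin.val h
    simp [i, j] at this
  obtain ⟨t, ht, σ, τ, h1, hσ⟩ := M.trans i j
  let c : (Fin (2 ^ m) → ZMod 2) → Fin (2 ^ m + 1) → ZMod 2 := fun y => Fin.cons (∑ x, y x) y
  have hc : ∀ y, ∑ x, c y x = 0 := fun y => by
    rw [Fin.sum_univ_succ]
    simp only [c, Fin.cons_zero, Fin.cons_succ]
    exact CharTwo.add_self_eq_zero _
  have hci : ∀ y y', c y = c y' → y = y' := fun y y' h => by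
    funext a
    have := congrFun h a.succ
    simpa [c] using this
  have hsur : ∀ y : Fin (2 ^ m) → ZMod 2, ∃ v ∈ zl (S : Subgroup G) P, M.e v = Pi.single i (c y) := fun y =>
    M.surj _ fun a => by
      by_cases h : a = i
      · subst h
        rw [Pi.single_eq_same]
        exact hc y
      · rw [Pi.single_eq_of_ne h]
        simp
  choose s hs hse using hsur
  let f : (Fin (2 ^ m) → ZMod 2) × zc (S : Subgroup G) → zl (S : Subgroup G) P :=
    fun p => ⟨s p.1 * p.2, mul_mem (hs p.1) (hZV p.2.2)⟩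
  have hf : Function.Injective f := by
    rintro ⟨x, z⟩ ⟨y, w⟩ hxy
    have e0 : s x * (z : G) = s y * (w : G) := congrArg Subtype.val hxy
    have e1 := congrArg M.e e0
    rw [M.mul _ (hs x) _ (hZV z.2), M.mul _ (hs y) _ (hZV w.2), hse, hse] at e1
    have key : ∀ v ∈ zc (S : Subgroup G), M.e v j = 0 → M.e v i = 0 := fun v hv h0 => by
      funext a
      have h2 := h1 v (hZV hv) i a
      rw [(MinSimple.VModule.mem_zc.1 hv).2.1 t ht, mul_inv_cancel_right, hσ, h0] at h2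
      exact h2.symm
    have hzw : (z : G)⁻¹ * w ∈ zc (S : Subgroup G) := mul_mem (inv_mem z.2) w.2
    have e2 : M.e ((z : G)⁻¹ * w) = Pi.single i (c x) - Pi.single i (c y) := by
      have e3 : M.e (z : G) + M.e ((z : G)⁻¹ * w) = M.e (w : G) := by
        rw [← M.mul _ (hZV z.2) _ (hZV hzw)]
        congr 1
        group
      have e4 : Pi.single i (c x) + M.e (z : G) =
          Pi.single i (c y) + (M.e (z : G) + M.e ((z : G)⁻¹ * w)) := by
        rw [e3]; exact e1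
      have e5 : Pi.single i (c x) = Pi.single i (c y) + M.e ((z : G)⁻¹ * w) := by
        have h6 : Pi.single i (c x) + M.e (z : G) =
            (Pi.single i (c y) + M.e ((z : G)⁻¹ * w)) + M.e (z : G) := by
          rw [e4]; abel
        exact add_right_cancel h6
      rw [e5]; abel
    have e6 : M.e ((z : G)⁻¹ * w) j = 0 := by
      rw [e2, Pi.sub_apply, Pi.single_eq_of_ne hij.symm, Pi.single_eq_of_ne hij.symm, sub_zero]
    have e7 := key _ hzw e6
    rw [e2, Pi.sub_apply, Pi.single_eq_same, Pi.single_eq_same, sub_eq_zero] at e7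
    obtain rfl := hci _ _ e7
    have e8 : (z : G) = w := mul_left_cancel e0
    exact Prod.ext rfl (Subtype.ext e8)
  have h2 := Nat.card_le_card_of_injective f hf
  rw [Nat.card_prod, Nat.card_fun] at h2
  have h4 : 4 ≤ Nat.card (ZMod 2) ^ Nat.card (Fin (2 ^ m)) := by
    rw [Nat.card_fin, Nat.card_zmod]
    have h5 : 2 ≤ 2 ^ m := by
      calc 2 = 2 ^ 1 := by norm_num
        _ ≤ 2 ^ m := Nat.pow_le_pow_right (by norm_num) hm
    calc 4 = 2 ^ 2 := by norm_num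
      _ ≤ 2 ^ 2 ^ m := Nat.pow_le_pow_right (by norm_num) h5
  exact (Nat.mul_le_mul_right _ h4).trans h2

/-- a typed member with `|V_P| = 2 |Z|` has one natural factor and `q = 2` -/
theorem exists_natOver (hG : IsCharacteristicTwoType G) (hT : Typed (S : Subgroup G) P)
    (hP : IsParS (S : Subgroup G) P)
    (c : Nat.card (zl (S : Subgroup G) P) = 2 * Nat.card (zc (S : Subgroup G))) :
    ∃ (F : Type) (_ : Field F) (_ : Finite F) (_ : CharP F 2), Nat.card F = 2 ∧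
      Nonempty (NatOver F P (zl (S : Subgroup G) P) (cv (S : Subgroup G) P)) := by
  have hpos : 0 < Nat.card (cv (S : Subgroup G) P) := Nat.card_pos
  have hz : 0 < Nat.card (zc (S : Subgroup G)) := Nat.card_pos
  rcases hT.cases with ⟨k, hk, F, i1, i2, i3, ⟨M⟩⟩ | ⟨k, m, hk, hm2, ⟨M⟩⟩
  · rcases Nat.lt_or_ge k 2 with h1 | h1
    · obtain rfl : k = 1 := by omega
      refine ⟨F, i1, i2, i3, ?_, ⟨M.natOver⟩⟩
      have h1 := F4Leaf.NatStep.card_eq M inf_le_left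
      have h2 := NN.card_zc_le M
      have h3 : 2 ≤ Nat.card F := Finite.one_lt_card
      have h4 : Nat.card F ^ 2 * Nat.card (cv (S : Subgroup G) P) ≤
          2 * (Nat.card F * Nat.card (cv (S : Subgroup G) P)) := by
        rw [← h1, c]
        exact Nat.mul_le_mul_left _ h2
      have h5 : Nat.card F * (Nat.card F * Nat.card (cv (S : Subgroup G) P)) ≤
          2 * (Nat.card F * Nat.card (cv (S : Subgroup G) P)) := by
        calc _ = Nat.card F ^ 2 * Nat.card (cv (S : Subgroup G) P) := by ring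
          _ ≤ _ := h4
      have h6 := Nat.le_of_mul_le_mul_right h5 (Nat.mul_pos (by omega) hpos)
      omega
    · have := four_nat M h1
      omega
  · exfalso
    rcases Nat.lt_or_ge k 2 with h1 | h1
    · obtain rfl : k = 1 := by omega
      obtain ⟨A, ε, h⟩ := F4Leaf.Split.exists_split hG hP (by omega) M
      have h1 := h.card_zc hG hP (by omega)
      have h2 := NN.card_sym M inf_le_left
      rw [c, h1] at h2
      have h3 : 2 ^ 2 ^ m * Nat.card (cv (S : Subgroup G) P) ≤ 4 * Nat.card (cv (S : Subgroup G) P) := by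
        calc _ ≤ 2 * (2 * Nat.card (cv (S : Subgroup G) P)) := h2
          _ = _ := by ring
      have h4 := Nat.le_of_mul_le_mul_right h3 hpos
      have h5 : 4 ≤ 2 ^ m := by
        calc 4 = 2 ^ 2 := by norm_num
          _ ≤ 2 ^ m := Nat.pow_le_pow_right (by norm_num) hm2
      have h6 : 2 ^ 4 ≤ 2 ^ 2 ^ m := Nat.pow_le_pow_right (by norm_num) h5
      norm_num at h6
      omega
    · have := four_sym M h1 (by omega)
      omega

end count

section known

/-- **the position**, without `NoWr` -/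
theorem exists_pos {G : Type u} [Group G] [Finite G] (hG : Ctx G) (S : Sylow 2 G) (hT : AllTyped (S : Subgroup G))
    {P₁ P₂ : Subgroup G} {x : G} (h : NonFree (S : Subgroup G) P₁ P₂ x)
    (c₁ : Nat.card (zl (S : Subgroup G) P₁) = 2 * Nat.card (zc (S : Subgroup G)))
    (c₂ : Nat.card (zl (S : Subgroup G) P₂) = 2 * Nat.card (zc (S : Subgroup G))) :
    ∃ (P V : Subgroup G) (ι : Type u) (R : ι → Subgroup G) (o : ι) (r z : G), HTwo.Entry.Pos S P V R o r z := by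
  obtain ⟨t₁, t₂⟩ := hT P₁ P₂ x h.mp
  obtain ⟨F₁, _, _, _, hF₁, ⟨o₁⟩⟩ := exists_natOver hG.char2 t₁ h.mp.star₁ c₁
  obtain ⟨F₂, _, _, _, hF₂, ⟨o₂⟩⟩ := exists_natOver hG.char2 t₂ h.mp.star₂ c₂
  exact NN.exists_pos_of hG S h o₁ o₂ hF₁ hF₂ c₁ c₂

/-- `m = m' = 2`, `n` 2-central, without `NoWr` -/
theorem cen_known (hX : PosExit.{u}) (G : Type u) [Group G] [Finite G] (hG : Ctx G) (S : Sylow 2 G)
    (hF : Full (S : Subgroup G)) (hI : AllIn (S : Subgroup G)) (hT : AllTyped (S : Subgroup G))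
    (P₁ P₂ : Subgroup G) (y : G) (A : Subgroup G)
    (ε : (Fin (2 ^ 2 + 1) → ZMod 2) → G) (A₂ : Subgroup G) (ε₂ : (Fin (2 ^ 2 + 1) → ZMod 2) → G)
    (hl : LabTwoZ S P₁ P₂ y 2 2 A ε A₂ ε₂)
    (hC : Cen (zl (S : Subgroup G) P₁) (cj y (zl (S : Subgroup G) P₂))) : IsKnownSimple' G := by
  obtain ⟨p, e, p₂, e₂, h⟩ := Entry.tt_side hG.char2 hl hC
  obtain ⟨R, R₂, x, hR, c, c₂⟩ := h.exists_pair hG.char2 S
  obtain ⟨P, V, ι, R', o, r, z, hp⟩ := exists_pos hG S hT hR c c₂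
  exact hX G hG S hF hI P V ι R' o r z hp

/-- `m = 2`, natural partner, without `NoWr` -/
theorem nat_known (hX : PosExit.{u}) (G : Type u) [Group G] [Finite G] (hG : Ctx G) (S : Sylow 2 G)
    (hF : Full (S : Subgroup G)) (hI : AllIn (S : Subgroup G)) (hT : AllTyped (S : Subgroup G))
    (P₁ P₂ : Subgroup G) (y : G) (A : Subgroup G)
    (ε : (Fin (2 ^ 2 + 1) → ZMod 2) → G) (hl : LabZ S P₁ P₂ y 2 A ε) (hN : IsNat (S : Subgroup G) P₂ 1)
    (hcv : cv (S : Subgroup G) P₂ ≠ ⊥) : IsKnownSimple' G := by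
  obtain ⟨p, e, h⟩ := Entry.nat_side hG.char2 hl hN
  obtain ⟨R, x, hR, c, hne⟩ := h.exists_pair hG.char2 S hl.pair.star₂
  obtain ⟨c1, c2⟩ := NatStep.natStep G hG.char2 S P₁ P₂ y 2 A ε (by norm_num) hl hN
  obtain ⟨P, V, ι, R', o, r, z, hp⟩ := exists_pos hG S hT ⟨hR, hne, hcv⟩ c (by omega)
  exact hX G hG S hF hI P V ι R' o r z hp

/-- `m = m' = 2`, `n` not 2-central, without `NoWr` -/
theorem nc_false (G : Type u) [Group G] [Finite G] (hG : Ctx G) (S : Sylow 2 G)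
    (P₁ P₂ : Subgroup G) (y : G) (A : Subgroup G) (ε : (Fin (2 ^ 2 + 1) → ZMod 2) → G)
    (A₂ : Subgroup G) (ε₂ : (Fin (2 ^ 2 + 1) → ZMod 2) → G)
    (hl : LabTwoZ S P₁ P₂ y 2 2 A ε A₂ ε₂) (hc₁ : cv (S : Subgroup G) P₁ ≠ ⊥)
    (hC : ¬ Cen (zl (S : Subgroup G) P₁) (cj y (zl (S : Subgroup G) P₂))) : False := by
  have hp₁ := hl.pair.star₁
  have hp₂ := hl.pair.star₂
  obtain ⟨g, k, M₁, M₂, -, b⟩ := Z.exists_base hG.char2 hl
    (fun M t => Z.Member.hB hG.char2 hl.split hp₁ M t) (fun M t => Z.Member.hB hG.char2 hl.split₂ hp₂ M t) hC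
  obtain ⟨k', b'⟩ := b.to_one₁
  have t := Z.Member.dat hG.char2 hl.split hp₁ M₁ b.dih₁
  have hz := Z.Member.zT_le hG.char2 hl.split hp₁ M₁
  exact OT.Done.false_of (OT.OfO1.cfg_of b' t hz hc₁)

/-- **(H2)** for the member `V = V_{P₁}` of degree `2^m + 1 ≥ 9`, `V₀ ≠ 1`, of a mutual pair, without `NoWr`. -/
def MemH2 (K : Cls.{u}) : Prop :=
  ∀ (G : Type u) [Group G] [Finite G], Ctx G → K G → ∀ (S : Sylow 2 G), Full (S : Subgroup G) →
    AllIn (S : Subgroup G) → AllTyped (S : Subgroup G) →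
    ∀ (P₁ P₂ : Subgroup G) (y : G) (m : ℕ) (A : Subgroup G) (ε : (Fin (2 ^ m + 1) → ZMod 2) → G), 3 ≤ m →
      LabZ S P₁ P₂ y m A ε → cv (S : Subgroup G) P₁ ≠ ⊥ → cv (S : Subgroup G) P₂ ≠ ⊥ → ¬ IsKnownSimple' G → H2 ε

theorem MemH2.toTwo {K : Cls.{u}} (h : MemH2 K) : F4Leaf.Two.MemH2 K :=
  fun G _ _ hG hcl S hF hI hT _ => h G hG hcl S hF hI hT

/-- `m ≥ 3` or `m' ≥ 3` from (H2), without `NoWr` -/
theorem symBig_known {K : Cls.{u}} (h2 : MemH2 K) (G : Type u) [Group G] [Finite G] (hG : Ctx G) (hcl : K G)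
    (S : Sylow 2 G) (hF : Full (S : Subgroup G)) (hI : AllIn (S : Subgroup G)) (hT : AllTyped (S : Subgroup G))
    (P₁ P₂ : Subgroup G) (y : G) (m m' : ℕ) (A : Subgroup G) (ε : (Fin (2 ^ m + 1) → ZMod 2) → G)
    (A₂ : Subgroup G) (ε₂ : (Fin (2 ^ m' + 1) → ZMod 2) → G) (hm : 2 ≤ m) (hm' : 2 ≤ m') (hbig : 3 ≤ m ∨ 3 ≤ m')
    (hl : LabTwoZ S P₁ P₂ y m m' A ε A₂ ε₂) (hc₁ : cv (S : Subgroup G) P₁ ≠ ⊥)
    (hc₂ : cv (S : Subgroup G) P₂ ≠ ⊥) : IsKnownSimple' G := by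
  by_contra hk
  rcases hbig with h3 | h3
  · exact Two.false_two hG.char2 hl h3 hm'
      (h2 G hG hcl S hF hI hT P₁ P₂ y m A ε h3 hl.toLabZ hc₁ hc₂ hk)
  · have hl' := Two.labTwoZ_symm hl
    exact Two.false_two hG.char2 hl' h3 hm
      (h2 G hG hcl S hF hI hT P₂ P₁ y⁻¹ m' A₂ ε₂ h3 hl'.toLabZ hc₂ hc₁ hk)

/-- **Two members of type `S_{2^m+1}`, `S_{2^m'+1}` of a mutual pair, not free**, without `NoWr`. -/
theorem tt_known {K : Cls.{u}} (hX : PosExit.{u}) (h2 : MemH2 K) (G : Type u) [Group G] [Finite G] (hG : Ctx G)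
    (hcl : K G) (S : Sylow 2 G) (hF : Full (S : Subgroup G)) (hI : AllIn (S : Subgroup G))
    (hT : AllTyped (S : Subgroup G)) (P₁ P₂ : Subgroup G) (x : G) (hm : Mutual (S : Subgroup G) P₁ P₂ x)
    (hnf : ¬ (Free (S : Subgroup G) P₁ ∧ Free (S : Subgroup G) P₂)) (m m' : ℕ) (hm2 : 2 ≤ m) (hm2' : 2 ≤ m')
    (hS : IsSym (S : Subgroup G) P₁ 1 m) (hS' : IsSym (S : Subgroup G) P₂ 1 m') : IsKnownSimple' G := by
  obtain ⟨y, hp⟩ := S5.Main.exists_pos hG.char2 S hT hm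
  obtain ⟨A, ε, hs⟩ := Split.splitStep G hG.char2 S P₁ m hm2 hp.pair.star₁ hS
  have c1 := hs.card_zc hG.char2 hp.pair.star₁ (by omega)
  obtain ⟨A₂, ε₂, hs₂⟩ := Split.splitStep G hG.char2 S P₂ m' hm2' hp.pair.star₂ hS'
  have c2 := hs₂.card_zc hG.char2 hp.pair.star₂ (by omega)
  have hne : cv (S : Subgroup G) P₁ ≠ ⊥ ∧ cv (S : Subgroup G) P₂ ≠ ⊥ := by
    rw [ne_bot_iff, ne_bot_iff]
    have e : Nat.card (cv (S : Subgroup G) P₁) = Nat.card (cv (S : Subgroup G) P₂) := by omega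
    rw [e, and_self]
    intro h0
    apply hnf
    exact ⟨Subgroup.card_eq_one.mp (e.trans h0), Subgroup.card_eq_one.mp h0⟩
  have hl := labTwoZ hp hs hs₂
  by_cases hbig : 3 ≤ m ∨ 3 ≤ m'
  · exact symBig_known h2 G hG hcl S hF hI hT P₁ P₂ y m m' A ε A₂ ε₂ hm2 hm2' hbig hl hne.1 hne.2
  · obtain rfl : m = 2 := by omega
    obtain rfl : m' = 2 := by omega
    by_cases hC : Cen (zl (S : Subgroup G) P₁) (cj y (zl (S : Subgroup G) P₂))
    · exact cen_known hX G hG S hF hI hT P₁ P₂ y A ε A₂ ε₂ hl hC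
    · exact (nc_false G hG S P₁ P₂ y A ε A₂ ε₂ hl hne.1 hC).elim

end known

end Cfsg.Agent.Omega.F4Leaf.NoWrFree

end

section


/-!
# II.d: `TTPair K` (`Cv/SymPlug.lean`) from the exit `PosExit` and (H2) (helper856)
-/

set_option autoImplicit false

namespace Cfsg.Agent.Omega.IId.Cv

open Cfsg Cfsg.Agent.Omega.MinPar Cfsg.Agent.Omega.Frame Cfsg.Agent.Omega.FrameMulti

universe u

/-- **`TTPair`**: LeafF4 for two members of type `S_{2^m+1}`, without `NoWr`. -/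
theorem ttPair_of {K : Cls.{u}} (hX : F4Leaf.Cen.Main.PosExit.{u}) (h2 : F4Leaf.NoWrFree.MemH2 K) : TTPair K :=
  fun G _ _ hG hcl S hF hI hT P₁ P₂ x hm hnf m m' h h' hS hS' =>
    F4Leaf.NoWrFree.tt_known hX h2 G hG hcl S hF hI hT P₁ P₂ x hm hnf m m' h h' hS hS'

end Cfsg.Agent.Omega.IId.Cv

end
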